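import Groth.Agent.Lib.Helper67.FiberStalk3
import Groth.Prelude

/-!
# The local ring of the fibre of `Spec R → Spec A` at a prime (helper73)

`fiberStalkSpecEquiv`: for an `A`-algebra `R` and a point `x` of `Spec R`, the local ring at `x`
of the fibre of `Spec R ⟶ Spec A` through `x` is `R_q / p R_q` (`EGA4.FibLocRing A R q`).
-/

set_option autoImplicit false
open CategoryTheory AlgebraicGeometry TopologicalSpace Topology Limits
universe u

namespace Groth.Agent.Lib.Helper73

open Groth.Agent.Lib.Helper67.FiberStalk

section

variable (A R : Type u) [CommRing A] [CommRing R] [Algebra A R]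

/-- The structure morphism `Spec R ⟶ Spec A`. -/
noncomputable abbrev specAlg : Spec (CommRingCat.of R) ⟶ Spec (CommRingCat.of A) :=
  Spec.map (CommRingCat.ofHom (algebraMap A R))

variable {R}

/-- The stalk map of `Spec R ⟶ Spec A` in terms of `Localization.localRingHom`. -/
theorem stalkIso_stalkMap_apply (x : PrimeSpectrum R)
    (a : (Spec (CommRingCat.of A)).presheaf.stalk ((specAlg A R) x)) :
    (Spec.stalkIso (CommRingCat.of R) x).hom.hom (((specAlg A R).stalkMap x).hom a) =
      Localization.localRingHom (PrimeSpectrum.comap (algebraMap A R) x).asIdeal x.asIdeal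
        (algebraMap A R) rfl
        ((Spec.stalkIso (CommRingCat.of A) (PrimeSpectrum.comap (algebraMap A R) x)).hom.hom a) := by
  have h := Scheme.localRingHom_comp_stalkIso_apply (CommRingCat.ofHom (algebraMap A R)) x a
  have h' := congrArg (Spec.stalkIso (CommRingCat.of R) x).hom.hom h
  exact h'.symm.trans
    ((Spec.stalkIso (CommRingCat.of R) x).commRingCatIsoToRingEquiv.apply_symm_apply _)

/-- The image of `m_{f x} O_{X,x}` in `R_q` is `p R_q`. -/
theorem map_stalkIso_fibIdeal (x : PrimeSpectrum R) :
    (fibIdeal (specAlg A R) x).map (Spec.stalkIso (CommRingCat.of R) x).hom.hom =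
      (x.asIdeal.comap (algebraMap A R)).map (algebraMap A (Localization.AtPrime x.asIdeal)) := by
  have h2 : ((Spec.stalkIso (CommRingCat.of R) x).hom.hom.comp
      ((specAlg A R).stalkMap x).hom) =
      (Localization.localRingHom (PrimeSpectrum.comap (algebraMap A R) x).asIdeal x.asIdeal
        (algebraMap A R) rfl).comp
        (Spec.stalkIso (CommRingCat.of A) (PrimeSpectrum.comap (algebraMap A R) x)).hom.hom := by
    ext a
    exact stalkIso_stalkMap_apply A x a
  have h4 : (IsLocalRing.maximalIdeal
      ((Spec (CommRingCat.of A)).presheaf.stalk ((specAlg A R) x))).map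
      (Spec.stalkIso (CommRingCat.of A) (PrimeSpectrum.comap (algebraMap A R) x)).hom.hom =
      IsLocalRing.maximalIdeal
        (Localization.AtPrime (PrimeSpectrum.comap (algebraMap A R) x).asIdeal) := by
    let e : (Spec (CommRingCat.of A)).presheaf.stalk ((specAlg A R) x) ≃+*
        Localization.AtPrime (PrimeSpectrum.comap (algebraMap A R) x).asIdeal :=
      (Spec.stalkIso (CommRingCat.of A)
        (PrimeSpectrum.comap (algebraMap A R) x)).commRingCatIsoToRingEquiv
    exact IsLocalRing.map_ringEquiv_maximalIdeal e
  have h5 : (algebraMap A (Localization.AtPrime x.asIdeal)) =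
      (Localization.localRingHom (PrimeSpectrum.comap (algebraMap A R) x).asIdeal x.asIdeal
        (algebraMap A R) rfl).comp
        (algebraMap A (Localization.AtPrime (PrimeSpectrum.comap (algebraMap A R) x).asIdeal)) := by
    ext a
    rw [RingHom.comp_apply]
    refine Eq.trans ?_ (Localization.localRingHom_to_map _ _ _ _ a).symm
    exact IsScalarTower.algebraMap_apply A R (Localization.AtPrime x.asIdeal) a
  calc (fibIdeal (specAlg A R) x).map (Spec.stalkIso (CommRingCat.of R) x).hom.hom
      = (IsLocalRing.maximalIdeal ((Spec (CommRingCat.of A)).presheaf.stalk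
          ((specAlg A R) x))).map ((Spec.stalkIso (CommRingCat.of R) x).hom.hom.comp
            ((specAlg A R).stalkMap x).hom) := Ideal.map_map _ _
    _ = ((IsLocalRing.maximalIdeal ((Spec (CommRingCat.of A)).presheaf.stalk
          ((specAlg A R) x))).map (Spec.stalkIso (CommRingCat.of A)
            (PrimeSpectrum.comap (algebraMap A R) x)).hom.hom).map
          (Localization.localRingHom (PrimeSpectrum.comap (algebraMap A R) x).asIdeal x.asIdeal
            (algebraMap A R) rfl) := by rw [h2]; exact (Ideal.map_map _ _).symm
    _ = (((PrimeSpectrum.comap (algebraMap A R) x).asIdeal).map (algebraMap A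
          (Localization.AtPrime (PrimeSpectrum.comap (algebraMap A R) x).asIdeal))).map
          (Localization.localRingHom (PrimeSpectrum.comap (algebraMap A R) x).asIdeal x.asIdeal
            (algebraMap A R) rfl) := by
        rw [h4, ← Localization.AtPrime.map_eq_maximalIdeal]
    _ = _ := by
        rw [Ideal.map_map, ← h5]
        rfl

/-- The local ring of the fibre of `Spec R ⟶ Spec A` at `x` is `R_q / p R_q`. -/
noncomputable def fiberStalkSpecEquiv (x : PrimeSpectrum R) :
    ((specAlg A R).fiber ((specAlg A R).base x)).presheaf.stalk ((specAlg A R).asFiber x) ≃+*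
      EGA4.FibLocRing A R x.asIdeal :=
  (fiberStalkEquiv (specAlg A R) x).trans
    (Ideal.quotientEquiv _ _ (Spec.stalkIso (CommRingCat.of R) x).commRingCatIsoToRingEquiv
      (map_stalkIso_fibIdeal A x).symm)

end

end Groth.Agent.Lib.Helper73
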