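import Groth.Agent.Lib.Helper67.FiberStalk3
import Mathlib.AlgebraicGeometry.OpenImmersion

/-!
# The local ring of a fibre is local on source and target (helper73)

`nonempty_fiberStalk_equiv_of_square`: for a commutative square `f' ≫ i = j ≫ f` with `j`, `i`
open immersions, the local ring of the fibre of `f'` at `u` is isomorphic to the local ring of the
fibre of `f` at `j u`.
-/

set_option autoImplicit false
open CategoryTheory AlgebraicGeometry TopologicalSpace Topology Limits
universe u

namespace Groth.Agent.Lib.Helper73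

open Groth.Agent.Lib.Helper67.FiberStalk Groth.Agent.Lib.Helper67.FiberTower

variable {U V X S : Scheme.{u}}

/-- Precomposing with an open immersion does not change the local rings of the fibres. -/
theorem nonempty_fiberStalk_equiv_comp_left (j : U ⟶ X) [IsOpenImmersion j] (f : X ⟶ S) (u : U) :
    Nonempty (((f.fiber (f.base (j u))).presheaf.stalk (f.asFiber (j u))) ≃+*
      (((j ≫ f).fiber ((j ≫ f).base u)).presheaf.stalk ((j ≫ f).asFiber u))) := by
  let σ : X.presheaf.stalk (j u) ≃+* U.presheaf.stalk u :=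
    (asIso (j.stalkMap u)).commRingCatIsoToRingEquiv
  have h : IB (f.stalkMap (j u)).hom (j.stalkMap u).hom = (fibIdeal f (j u)).map σ := by
    unfold IB fibIdeal
    exact (Ideal.map_map (f.stalkMap (j u)).hom (j.stalkMap u).hom).symm
  exact ⟨(fiberStalkEquiv f (j u)).trans ((Ideal.quotientEquiv _ _ σ h).trans
    ((qCompEquiv j f u).symm.trans (fiberStalkEquiv (j ≫ f) u).symm))⟩

/-- Postcomposing with an open immersion does not change the local rings of the fibres. -/
theorem nonempty_fiberStalk_equiv_comp_right (f' : U ⟶ V) (i : V ⟶ S) [IsOpenImmersion i] (u : U) :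
    Nonempty (((f'.fiber (f'.base u)).presheaf.stalk (f'.asFiber u)) ≃+*
      (((f' ≫ i).fiber ((f' ≫ i).base u)).presheaf.stalk ((f' ≫ i).asFiber u))) := by
  let γ : S.presheaf.stalk (i (f' u)) ≃+* V.presheaf.stalk (f' u) :=
    (asIso (i.stalkMap (f' u))).commRingCatIsoToRingEquiv
  have hγ : (IsLocalRing.maximalIdeal (S.presheaf.stalk (i (f' u)))).map (i.stalkMap (f' u)).hom =
      IsLocalRing.maximalIdeal (V.presheaf.stalk (f' u)) :=
    IsLocalRing.map_ringEquiv_maximalIdeal γ
  have h : IB (i.stalkMap (f' u)).hom (f'.stalkMap u).hom = fibIdeal f' u := by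
    unfold IB fibIdeal
    rw [← Ideal.map_map, hγ]
  exact ⟨(fiberStalkEquiv f' u).trans ((Ideal.quotEquivOfEq h.symm).trans
    ((qCompEquiv f' i u).symm.trans (fiberStalkEquiv (f' ≫ i) u).symm))⟩

/-- The local ring of a fibre is local on the source and on the target. -/
theorem nonempty_fiberStalk_equiv_of_square (j : U ⟶ X) (i : V ⟶ S) [IsOpenImmersion j]
    [IsOpenImmersion i] (f' : U ⟶ V) (f : X ⟶ S) (hsq : f' ≫ i = j ≫ f) (u : U) :
    Nonempty (((f'.fiber (f'.base u)).presheaf.stalk (f'.asFiber u)) ≃+*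
      ((f.fiber (f.base (j u))).presheaf.stalk (f.asFiber (j u)))) := by
  have key : ∀ g : U ⟶ S, g = j ≫ f →
      Nonempty (((g.fiber (g.base u)).presheaf.stalk (g.asFiber u)) ≃+*
        ((f.fiber (f.base (j u))).presheaf.stalk (f.asFiber (j u)))) := by
    intro g hg
    subst hg
    obtain ⟨e⟩ := nonempty_fiberStalk_equiv_comp_left j f u
    exact ⟨e.symm⟩
  obtain ⟨e1⟩ := nonempty_fiberStalk_equiv_comp_right f' i u
  obtain ⟨e2⟩ := key (f' ≫ i) hsq
  exact ⟨e1.trans e2⟩

end Groth.Agent.Lib.Helper73
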