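import Groth.Agent.Lib.Helper73.Sk.FibLocBridge
import Mathlib.AlgebraicGeometry.Morphisms.Flat
import Mathlib.AlgebraicGeometry.Morphisms.FinitePresentation

/-!
# Polynomial-quotient charts of a flat morphism locally of finite presentation (helper73)
-/

set_option autoImplicit false
universe u
open CategoryTheory AlgebraicGeometry TopologicalSpace Topology Limits

namespace Groth.Agent.Lib.Helper73

/-- A finitely presented algebra is a quotient of a polynomial ring (with variables indexed by a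
type in the same universe) by a finitely generated ideal. -/
theorem exists_polyQuot_algEquiv (A B : Type u) [CommRing A] [CommRing B] [Algebra A B]
    [Algebra.FinitePresentation A B] :
    ∃ (n : Type u) (_ : Finite n) (I : Ideal (MvPolynomial n A)), I.FG ∧
      Nonempty ((MvPolynomial n A ⧸ I) ≃ₐ[A] B) := by
  obtain ⟨N, ρ₀, hsurj, hfg⟩ := Algebra.FinitePresentation.out (R := A) (A := B)
  let ε : MvPolynomial (ULift.{u} (Fin N)) A ≃ₐ[A] MvPolynomial (Fin N) A :=
    MvPolynomial.renameEquiv A Equiv.ulift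
  let ρ : MvPolynomial (ULift.{u} (Fin N)) A →ₐ[A] B := ρ₀.comp ε.toAlgHom
  have hρ : Function.Surjective ρ := hsurj.comp ε.surjective
  refine ⟨ULift.{u} (Fin N), inferInstance, RingHom.ker ρ.toRingHom, ?_,
    ⟨Ideal.quotientKerAlgEquivOfSurjective hρ⟩⟩
  have hker : RingHom.ker ρ.toRingHom = (RingHom.ker ρ₀.toRingHom).map ε.symm.toRingEquiv.toRingHom := by
    ext p
    rw [RingHom.mem_ker]
    constructor
    · intro hp
      have : ε p ∈ RingHom.ker ρ₀.toRingHom := by
        rw [RingHom.mem_ker]; exact hp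
      have h2 := Ideal.mem_map_of_mem ε.symm.toRingEquiv.toRingHom this
      simpa using h2
    · intro hp
      have hle : (RingHom.ker ρ₀.toRingHom).map ε.symm.toRingEquiv.toRingHom ≤
          RingHom.ker ρ.toRingHom := by
        rw [Ideal.map_le_iff_le_comap]
        intro q hq
        rw [Ideal.mem_comap, RingHom.mem_ker]
        rw [RingHom.mem_ker] at hq
        show ρ₀ (ε (ε.symm q)) = 0
        rw [AlgEquiv.apply_symm_apply]
        exact hq
      exact (RingHom.mem_ker).mp (hle hp)
  rw [hker]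
  exact hfg.map _

variable {X Y : Scheme.{u}}

/-- Around every point of the source of a flat morphism locally of finite presentation there is a
chart of the form `Spec A[n]/I → Spec A` with `I` finitely generated and `A[n]/I` flat over `A`. -/
theorem exists_polyQuot_chart (f : X ⟶ Y) [Flat f] [LocallyOfFinitePresentation f] (x : X) :
    ∃ (A : Type u) (_ : CommRing A) (n : Type u) (_ : Finite n) (I : Ideal (MvPolynomial n A))
      (_ : I.FG) (_ : Module.Flat A (MvPolynomial n A ⧸ I))
      (j : Spec (CommRingCat.of (MvPolynomial n A ⧸ I)) ⟶ X) (i : Spec (CommRingCat.of A) ⟶ Y)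
      (_ : IsOpenImmersion j) (_ : IsOpenImmersion i),
      specAlg A (MvPolynomial n A ⧸ I) ≫ i = j ≫ f ∧ x ∈ Set.range j := by
  -- affine neighbourhoods
  obtain ⟨U, hU, hxU, -⟩ := Opens.isBasis_iff_nbhd.mp Y.isBasis_affineOpens
    (Opens.mem_top (f x))
  obtain ⟨V, hV, hxV, hVU'⟩ := Opens.isBasis_iff_nbhd.mp X.isBasis_affineOpens
    (show x ∈ f ⁻¹ᵁ U from hxU)
  let φ : Γ(Y, U) →+* Γ(X, V) := (f.appLE U V hVU').hom
  have hfp : φ.FinitePresentation :=
    HasRingHomProperty.appLE @LocallyOfFinitePresentation f inferInstance ⟨U, hU⟩ ⟨V, hV⟩ hVU'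
  have hflat : φ.Flat :=
    HasRingHomProperty.appLE @Flat f inferInstance ⟨U, hU⟩ ⟨V, hV⟩ hVU'
  algebraize [φ]
  obtain ⟨n, hn, I, hI, ⟨e⟩⟩ := exists_polyQuot_algEquiv Γ(Y, U) Γ(X, V)
  have hfl : Module.Flat Γ(Y, U) (MvPolynomial n Γ(Y, U) ⧸ I) :=
    Module.Flat.of_linearEquiv e.toLinearEquiv
  let ie : Spec (CommRingCat.of (MvPolynomial n Γ(Y, U) ⧸ I)) ≅ Spec Γ(X, V) :=
    Scheme.Spec.mapIso (e.symm.toRingEquiv.toCommRingCatIso).op
  have hie : ie.hom = Spec.map (CommRingCat.ofHom e.symm.toRingEquiv.toRingHom) := rfl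
  let j : Spec (CommRingCat.of (MvPolynomial n Γ(Y, U) ⧸ I)) ⟶ X := ie.hom ≫ hV.fromSpec
  let i : Spec (CommRingCat.of Γ(Y, U)) ⟶ Y := hU.fromSpec
  haveI hi : IsOpenImmersion i := hU.isOpenImmersion_fromSpec
  haveI hj0 : IsOpenImmersion hV.fromSpec := hV.isOpenImmersion_fromSpec
  haveI hj : IsOpenImmersion j := inferInstanceAs (IsOpenImmersion (ie.hom ≫ hV.fromSpec))
  refine ⟨Γ(Y, U), inferInstance, n, hn, I, hI, hfl, j, i, hj, hi, ?_, ?_⟩
  · have h1 : specAlg Γ(Y, U) (MvPolynomial n Γ(Y, U) ⧸ I) =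
        ie.hom ≫ Spec.map (f.appLE U V hVU') := by
      rw [hie, ← Spec.map_comp]
      unfold specAlg
      congr 1
      ext a
      show algebraMap Γ(Y, U) (MvPolynomial n Γ(Y, U) ⧸ I) a = e.symm (φ a)
      have : φ a = algebraMap Γ(Y, U) Γ(X, V) a := rfl
      rw [this, AlgEquiv.commutes]
    rw [h1, Category.assoc, IsAffineOpen.SpecMap_appLE_fromSpec f hU hV hVU', ← Category.assoc]
  · have : Set.range j = (V : Set X) := by
      show Set.range (ie.hom ≫ hV.fromSpec) = _
      rw [Scheme.Hom.comp_base, TopCat.coe_comp, Set.range_comp,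
        Set.range_eq_univ.mpr (show Function.Surjective ie.hom from
          ie.hom.homeomorph.surjective), Set.image_univ]
      exact IsAffineOpen.range_fromSpec hV
    rw [this]
    exact hxV

end Groth.Agent.Lib.Helper73
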