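import Groth.Agent.Lib.Helper73.Sk.SkCons

/-!
# Local constructibility of the locus where the fibre has codepth exactly `n` (helper73)
-/

set_option autoImplicit false
universe u
open CategoryTheory CategoryTheory.Limits AlgebraicGeometry TensorProduct LocCoh Topology

namespace Groth.Agent.Lib.Helper73

theorem isLocallyConstructible_compl' {X : Type*} [TopologicalSpace X] {s : Set X}
    (hs : IsLocallyConstructible s) : IsLocallyConstructible sᶜ := by
  intro x
  obtain ⟨U, hxU, hU, hsU⟩ := hs x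
  refine ⟨U, hxU, hU, ?_⟩
  have : (Subtype.val : U → X) ⁻¹' sᶜ = ((Subtype.val : U → X) ⁻¹' s)ᶜ := rfl
  rw [this]
  exact hsU.compl

theorem codepth_eq_iff {X S : Scheme.{u}} (f : X ⟶ S) [LocallyOfFiniteType f] (n : ℕ) (x : X) :
    (ringKrullDim ((f.fiber (f.base x)).presheaf.stalk (f.asFiber x)) =
        ((depth ((f.fiber (f.base x)).presheaf.stalk (f.asFiber x))
          ((f.fiber (f.base x)).presheaf.stalk (f.asFiber x)) : ℕ∞) : WithBot ℕ∞) + n) ↔
      CodepthLeAt f n x ∧ (n = 0 ∨ ¬ CodepthLeAt f (n - 1) x) := by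
  haveI := isNoetherianRing_fiber_stalk f (f.base x) (f.asFiber x)
  obtain ⟨a, ha⟩ := Groth.Agent.Lib.Helper77.FlatDepth.exists_nat_dim
    ((f.fiber (f.base x)).presheaf.stalk (f.asFiber x))
  obtain ⟨a', ha'⟩ := Groth.Agent.Lib.Helper77.FlatDepth.exists_nat_depth
    ((f.fiber (f.base x)).presheaf.stalk (f.asFiber x))
  have hle := Groth.Agent.Lib.Helper77.FlatDepth.depth_le_dim_nat _ a a' ha ha'
  unfold CodepthLeAt
  rw [ha, ha']
  have e0 : (((a : ℕ) : WithBot ℕ∞) = (((a' : ℕ) : ℕ∞) : WithBot ℕ∞) + (n : WithBot ℕ∞)) ↔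
      a = a' + n := by
    constructor
    · intro hh; exact_mod_cast hh
    · intro hh; exact_mod_cast hh
  have e1 : ∀ c : ℕ, (((a : ℕ) : WithBot ℕ∞) ≤ (((a' : ℕ) : ℕ∞) : WithBot ℕ∞) +
      ((c : ℕ) : WithBot ℕ∞)) ↔ a ≤ a' + c := by
    intro c
    constructor
    · intro hh; exact_mod_cast hh
    · intro hh; exact_mod_cast hh
  rw [e0, e1, e1]
  omega

theorem isLocallyConstructible_codepth_eq {X S : Scheme.{u}} (f : X ⟶ S)
    [LocallyOfFinitePresentation f] (n : ℕ) :
    IsLocallyConstructible {x : X |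
      ringKrullDim ((f.fiber (f.base x)).presheaf.stalk (f.asFiber x)) =
        ((depth ((f.fiber (f.base x)).presheaf.stalk (f.asFiber x))
          ((f.fiber (f.base x)).presheaf.stalk (f.asFiber x)) : ℕ∞) : WithBot ℕ∞) + n} := by
  have h1 := (fibrewiseProp_codepthLe n).isLocallyConstructible f
  have h2 := (fibrewiseProp_codepthLe (n - 1)).isLocallyConstructible f
  have hset : {x : X |
      ringKrullDim ((f.fiber (f.base x)).presheaf.stalk (f.asFiber x)) =
        ((depth ((f.fiber (f.base x)).presheaf.stalk (f.asFiber x))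
          ((f.fiber (f.base x)).presheaf.stalk (f.asFiber x)) : ℕ∞) : WithBot ℕ∞) + n} =
      {x : X | CodepthLeAt f n x} ∩ ({x : X | n = 0} ∪ {x : X | CodepthLeAt f (n - 1) x}ᶜ) := by
    ext x
    exact codepth_eq_iff f n x
  rw [hset]
  refine h1.inter (IsLocallyConstructible.union ?_ (isLocallyConstructible_compl' h2))
  by_cases hn : n = 0
  · simp [hn]
  · simp [hn]

end Groth.Agent.Lib.Helper73
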