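import Groth.Agent.Lib.Helper56.FiberLoc
import Groth.Agent.Lib.Helper56.DepthLoc
import Groth.Agent.Lib.Helper67.DepthAlg
import Groth.Agent.Lib.Helper77.RegularAB
import Mathlib.RingTheory.RegularLocalRing.Polynomial

/-!
# Fibre local rings of a quotient of a polynomial algebra (helper73)

* `locQuotMap I q : R_P → (R/I)_q`, surjective with kernel `I R_P`.
* `fibLocQuotMap A I q : FibLocRing A R P → FibLocRing A (R/I) q`, surjective with kernel generated
  by `I`.
* `isRegularLocalRing_fibLocRing_mvPolynomial`: the fibre local rings of a polynomial algebra are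
  regular.
* `exists_pd_add_depth_fibLoc`: Auslander–Buchsbaum for the fibre local ring of a quotient of a
  polynomial algebra.
-/

set_option autoImplicit false
universe u

namespace Groth.Agent.Lib.Helper73

open TensorProduct LocCoh CategoryTheory

section LocQuot

variable {R : Type u} [CommRing R] (I : Ideal R) (q : Ideal (R ⧸ I)) [q.IsPrime]

/-- The localized quotient map `R_P → (R/I)_q`, `P` the preimage of `q`. -/
noncomputable def locQuotMap :
    Localization.AtPrime (q.comap (Ideal.Quotient.mk I)) →+* Localization.AtPrime q :=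
  Localization.localRingHom (q.comap (Ideal.Quotient.mk I)) q (Ideal.Quotient.mk I) rfl

theorem locQuotMap_algebraMap (a : R) :
    locQuotMap I q (algebraMap R _ a) = algebraMap (R ⧸ I) _ (Ideal.Quotient.mk I a) :=
  Localization.localRingHom_to_map _ _ _ _ a

theorem locQuotMap_surjective : Function.Surjective (locQuotMap I q) := by
  intro y
  obtain ⟨b, t, rfl⟩ := IsLocalization.exists_mk'_eq q.primeCompl y
  obtain ⟨a, rfl⟩ := Ideal.Quotient.mk_surjective b
  obtain ⟨s, hs⟩ := Ideal.Quotient.mk_surjective (t : R ⧸ I)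
  have hsP : s ∈ (q.comap (Ideal.Quotient.mk I)).primeCompl := by
    intro h
    apply t.2
    rw [← hs]
    exact h
  refine ⟨IsLocalization.mk' _ a ⟨s, hsP⟩, ?_⟩
  unfold locQuotMap
  rw [Localization.localRingHom_mk']
  congr 1
  exact Subtype.ext hs

theorem ker_locQuotMap :
    RingHom.ker (locQuotMap I q) =
      I.map (algebraMap R (Localization.AtPrime (q.comap (Ideal.Quotient.mk I)))) := by
  apply le_antisymm
  · intro x hx
    rw [RingHom.mem_ker] at hx
    obtain ⟨a, s, rfl⟩ := IsLocalization.exists_mk'_eq (q.comap (Ideal.Quotient.mk I)).primeCompl x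
    unfold locQuotMap at hx
    rw [Localization.localRingHom_mk', IsLocalization.mk'_eq_zero_iff] at hx
    obtain ⟨t, ht⟩ := hx
    obtain ⟨t', ht'⟩ := Ideal.Quotient.mk_surjective (t : R ⧸ I)
    have ht'P : t' ∈ (q.comap (Ideal.Quotient.mk I)).primeCompl := by
      intro h
      apply t.2
      rw [← ht']
      exact h
    rw [IsLocalization.mk'_mem_map_algebraMap_iff]
    refine ⟨t', ht'P, ?_⟩
    rw [← Ideal.Quotient.eq_zero_iff_mem, map_mul, ht']
    exact ht
  · rw [Ideal.map_le_iff_le_comap]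
    intro a ha
    rw [Ideal.mem_comap, RingHom.mem_ker, locQuotMap_algebraMap,
      Ideal.Quotient.eq_zero_iff_mem.mpr ha, map_zero]

end LocQuot

section FibLocQuot

variable (A : Type u) {R : Type u} [CommRing A] [CommRing R] [Algebra A R]
  (I : Ideal R) (q : Ideal (R ⧸ I)) [q.IsPrime]

theorem comap_quot_comap :
    (q.comap (Ideal.Quotient.mk I)).comap (algebraMap A R) = q.comap (algebraMap A (R ⧸ I)) := by
  rw [Ideal.comap_comap, Ideal.Quotient.mk_comp_algebraMap]

theorem map_fibIdeal_locQuotMap :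
    (((q.comap (Ideal.Quotient.mk I)).comap (algebraMap A R)).map
      (algebraMap A (Localization.AtPrime (q.comap (Ideal.Quotient.mk I))))).map (locQuotMap I q) =
    (q.comap (algebraMap A (R ⧸ I))).map (algebraMap A (Localization.AtPrime q)) := by
  rw [Ideal.map_map, comap_quot_comap]
  congr 1
  ext a
  rw [RingHom.comp_apply, IsScalarTower.algebraMap_apply A R (Localization.AtPrime _),
    locQuotMap_algebraMap, IsScalarTower.algebraMap_apply A (R ⧸ I) (Localization.AtPrime q)]
  rfl

/-- The map on fibre local rings induced by `R → R/I`. -/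
noncomputable def fibLocQuotMap :
    EGA4.FibLocRing A R (q.comap (Ideal.Quotient.mk I)) →+* EGA4.FibLocRing A (R ⧸ I) q :=
  Ideal.quotientMap _ (locQuotMap I q) (by
    rw [← Ideal.map_le_iff_le_comap, map_fibIdeal_locQuotMap])

theorem fibLocQuotMap_mk (x : Localization.AtPrime (q.comap (Ideal.Quotient.mk I))) :
    fibLocQuotMap A I q (Ideal.Quotient.mk _ x) = Ideal.Quotient.mk _ (locQuotMap I q x) := rfl

theorem fibLocQuotMap_surjective : Function.Surjective (fibLocQuotMap A I q) := by
  intro y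
  obtain ⟨y, rfl⟩ := Ideal.Quotient.mk_surjective y
  obtain ⟨x, rfl⟩ := locQuotMap_surjective I q y
  exact ⟨Ideal.Quotient.mk _ x, rfl⟩

theorem ker_fibLocQuotMap :
    RingHom.ker (fibLocQuotMap A I q) =
      I.map (algebraMap R (EGA4.FibLocRing A R (q.comap (Ideal.Quotient.mk I)))) := by
  apply le_antisymm
  · intro x hx
    obtain ⟨x, rfl⟩ := Ideal.Quotient.mk_surjective x
    rw [RingHom.mem_ker, fibLocQuotMap_mk, Ideal.Quotient.eq_zero_iff_mem,
      ← map_fibIdeal_locQuotMap,
      Ideal.mem_map_iff_of_surjective _ (locQuotMap_surjective I q)] at hx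
    obtain ⟨z, hz, hzx⟩ := hx
    have h1 : x - z ∈ RingHom.ker (locQuotMap I q) := by
      rw [RingHom.mem_ker, map_sub, hzx, sub_self]
    rw [ker_locQuotMap] at h1
    have h2 : Ideal.Quotient.mk _ x = Ideal.Quotient.mk
        (((q.comap (Ideal.Quotient.mk I)).comap (algebraMap A R)).map
          (algebraMap A (Localization.AtPrime (q.comap (Ideal.Quotient.mk I))))) (x - z) := by
      rw [map_sub, Ideal.Quotient.eq_zero_iff_mem.mpr hz, sub_zero]
    rw [h2]
    have h3 : (algebraMap R (EGA4.FibLocRing A R (q.comap (Ideal.Quotient.mk I)))) =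
        (Ideal.Quotient.mk _).comp (algebraMap R (Localization.AtPrime _)) := rfl
    rw [h3, ← Ideal.map_map]
    exact Ideal.mem_map_of_mem _ h1
  · rw [Ideal.map_le_iff_le_comap]
    intro a ha
    rw [Ideal.mem_comap, RingHom.mem_ker]
    have h3 : (algebraMap R (EGA4.FibLocRing A R (q.comap (Ideal.Quotient.mk I)))) a =
        Ideal.Quotient.mk _ (algebraMap R (Localization.AtPrime _) a) := rfl
    rw [h3, fibLocQuotMap_mk, locQuotMap_algebraMap, Ideal.Quotient.eq_zero_iff_mem.mpr ha,
      map_zero, map_zero]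

end FibLocQuot

section Abstract

variable {Pl Λ Ω : Type u} [CommRing Pl] [CommRing Λ] [CommRing Ω] [Algebra Pl Λ]
  [IsRegularLocalRing Λ] [IsLocalRing Ω]

theorem exists_pd_add_depth_of_surjective (I : Ideal Pl) (ψ : Λ →+* Ω)
    (hsurj : Function.Surjective ψ) (hker : RingHom.ker ψ = I.map (algebraMap Pl Λ)) :
    ∃ e : ℕ, projectiveDimension (ModuleCat.of Λ (Λ ⊗[Pl] (Pl ⧸ I))) = e ∧
      ringKrullDim Λ = (((e : ℕ∞) + depth Ω Ω : ℕ∞) : WithBot ℕ∞) := by
  letI : Algebra Λ Ω := ψ.toAlgebra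
  haveI : IsNoetherianRing Ω := isNoetherianRing_of_surjective Λ Ω ψ hsurj
  haveI : IsLocalHom (algebraMap Λ Ω) := IsLocalHom.of_surjective _ hsurj
  haveI : Module.Finite Λ Ω := Module.Finite.of_surjective (Algebra.linearMap Λ Ω) hsurj
  let e1 : (Λ ⊗[Pl] (Pl ⧸ I)) ≃ₐ[Λ] Λ ⧸ I.map (algebraMap Pl Λ) :=
    (Algebra.TensorProduct.quotIdealMapEquivTensorQuot Λ I).symm
  have hker' : I.map (algebraMap Pl Λ) = RingHom.ker (Algebra.ofId Λ Ω) := hker.symm
  let e2 : (Λ ⧸ I.map (algebraMap Pl Λ)) ≃ₐ[Λ] Ω :=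
    (Ideal.quotientEquivAlgOfEq Λ hker').trans
      (Ideal.quotientKerAlgEquivOfSurjective (f := Algebra.ofId Λ Ω) hsurj)
  let e3 : (Λ ⊗[Pl] (Pl ⧸ I)) ≃ₗ[Λ] Ω := (e1.trans e2).toLinearEquiv
  haveI : Nontrivial (Λ ⊗[Pl] (Pl ⧸ I)) := e3.toEquiv.nontrivial
  obtain ⟨e, he, hdim⟩ := Groth.Agent.Lib.Helper77.RegularAB.exists_pd_add_depth_eq_dim Λ
    (Λ ⊗[Pl] (Pl ⧸ I))
  refine ⟨e, he, ?_⟩
  rw [hdim, Groth.Agent.Lib.Helper56.depth_congr e3,
    Groth.Agent.Lib.Helper67.depth_eq_depth_of_isLocalHom_of_finite (A := Λ) (B := Ω) Ω]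

end Abstract

section Poly
variable (A : Type u) [CommRing A] (n : Type u) [Finite n]

theorem isRegularLocalRing_fibLocRing_mvPolynomial (P : Ideal (MvPolynomial n A)) [P.IsPrime] :
    IsRegularLocalRing (EGA4.FibLocRing A (MvPolynomial n A) P) := by
  obtain ⟨Q, hQ, hQP⟩ := Groth.Agent.Lib.Helper56.exists_fiber_prime A (MvPolynomial n A) P
  have e := Groth.Agent.Lib.Helper56.fiberLocEquiv A (MvPolynomial n A)
    (P.comap (algebraMap A (MvPolynomial n A))) Q
  haveI : IsRegularRing (MvPolynomial n (P.comap (algebraMap A (MvPolynomial n A))).ResidueField) :=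
    inferInstance
  haveI : IsRegularRing ((P.comap (algebraMap A (MvPolynomial n A))).Fiber (MvPolynomial n A)) :=
    IsRegularRing.of_ringEquiv (MvPolynomial.algebraTensorAlgEquiv A
      (P.comap (algebraMap A (MvPolynomial n A))).ResidueField (σ := n)).symm.toRingEquiv
  haveI : IsRegularLocalRing (Localization.AtPrime Q) := inferInstance
  have h1 : IsRegularLocalRing (EGA4.FibLocRing A (MvPolynomial n A)
      (Q.comap (Algebra.TensorProduct.includeRight :
        MvPolynomial n A →ₐ[A] (P.comap (algebraMap A (MvPolynomial n A))).Fiber (MvPolynomial n A)))) :=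
    IsRegularLocalRing.of_ringEquiv (R := Localization.AtPrime Q) e
  have key : ∀ (P' : Ideal (MvPolynomial n A)) [P'.IsPrime], P' = P →
      IsRegularLocalRing (EGA4.FibLocRing A (MvPolynomial n A) P') →
      IsRegularLocalRing (EGA4.FibLocRing A (MvPolynomial n A) P) := by
    intro P' _ hP' hh
    subst hP'
    exact hh
  exact key _ hQP h1

variable (I : Ideal (MvPolynomial n A)) (q : Ideal (MvPolynomial n A ⧸ I)) [q.IsPrime]

theorem exists_pd_add_depth_fibLoc :
    ∃ e : ℕ, projectiveDimension (ModuleCat.of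
        (EGA4.FibLocRing A (MvPolynomial n A) (q.comap (Ideal.Quotient.mk I)))
        ((EGA4.FibLocRing A (MvPolynomial n A) (q.comap (Ideal.Quotient.mk I)))
          ⊗[MvPolynomial n A] (MvPolynomial n A ⧸ I))) = e ∧
      ringKrullDim (EGA4.FibLocRing A (MvPolynomial n A) (q.comap (Ideal.Quotient.mk I))) =
        (((e : ℕ∞) + depth (EGA4.FibLocRing A (MvPolynomial n A ⧸ I) q)
          (EGA4.FibLocRing A (MvPolynomial n A ⧸ I) q) : ℕ∞) : WithBot ℕ∞) := by
  haveI hreg := isRegularLocalRing_fibLocRing_mvPolynomial A n (q.comap (Ideal.Quotient.mk I))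
  haveI : IsLocalRing (EGA4.FibLocRing A (MvPolynomial n A ⧸ I) q) :=
    Groth.Agent.Lib.Helper77.FlatDepth.fibLoc_isLocalRing A _ q
  exact exists_pd_add_depth_of_surjective I (fibLocQuotMap A I q)
    (fibLocQuotMap_surjective A I q) (ker_fibLocQuotMap A I q)

end Poly
end Groth.Agent.Lib.Helper73
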