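import Groth.Agent.Lib.Helper73.Sk.FibLocBridge
import Groth.Agent.Lib.Helper73.Sk.FibLocQuot
import Groth.Agent.Lib.Helper73.DimFormula.CMFlat.CMFlatAff
import Groth.Agent.Lib.Helper73.DimFormula.Hypersurface
import Groth.Agent.S19197
/-!
# Numerical invariants of the fibres of `Spec A[n]/I → Spec A` (helper73)

* `fibPd`: the fibrewise projective dimension of `A[n]/I` over `A[n]` (the function of S19197);
  `upperSemicontinuous_fibPd`.
* `fibre_numerics`: at a point `x` of `Spec A[n]/I`, the depth `d` and dimension `m` of the local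
  ring of the fibre, the residual transcendence degree `t` and the fibrewise projective dimension
  `e` satisfy `e + d + t = n` and `fibreDimAt = m + t`.
-/

set_option autoImplicit false
universe u
open CategoryTheory AlgebraicGeometry TopologicalSpace Topology Limits TensorProduct LocCoh
namespace Groth.Agent.Lib.Helper73

section
variable (A : Type u) [CommRing A] (n : Type u) [Finite n]

instance : LocallyOfFiniteType (specAlg A (MvPolynomial n A)) := by
  rw [HasRingHomProperty.Spec_iff (P := @LocallyOfFiniteType)]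
  exact (RingHom.finiteType_algebraMap (A := A) (B := MvPolynomial n A)).mpr inferInstance

theorem fibreDimAt_specAlg_mvPolynomial (P : Spec (CommRingCat.of (MvPolynomial n A))) :
    FlatMor.fibreDimAt (specAlg A (MvPolynomial n A)) P = ((Nat.card n : ℕ) : WithBot ℕ∞) := by
  have hsq : specAlg A (MvPolynomial n A) ≫ 𝟙 _ =
      (AffineSpace.SpecIso n (CommRingCat.of A)).inv ≫ (𝔸(n; Spec (CommRingCat.of A)) ↘ Spec (CommRingCat.of A)) := by
    rw [AffineSpace.SpecIso_inv_over, Category.comp_id]
    rfl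
  rw [fibreDimAt_eq_of_isOpenImmersion_square (AffineSpace.SpecIso n (CommRingCat.of A)).inv (𝟙 _)
    (specAlg A (MvPolynomial n A)) (𝔸(n; Spec (CommRingCat.of A)) ↘ Spec (CommRingCat.of A)) hsq P,
    fibreDimAt_affineSpace]

variable (I : Ideal (MvPolynomial n A))

instance : LocallyOfFiniteType (specAlg A (MvPolynomial n A ⧸ I)) := by
  rw [HasRingHomProperty.Spec_iff (P := @LocallyOfFiniteType)]
  exact (RingHom.finiteType_algebraMap (A := A) (B := MvPolynomial n A ⧸ I)).mpr inferInstance

/-- The fibrewise projective dimension of `𝒫/I` over `𝒫 = A[n]` at a prime of `𝒫`. -/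
noncomputable def fibPd (P : PrimeSpectrum (MvPolynomial n A)) : WithBot ℕ∞ :=
  projectiveDimension (ModuleCat.of (EGA4.FibLocRing A (MvPolynomial n A) P.asIdeal)
    ((EGA4.FibLocRing A (MvPolynomial n A) P.asIdeal) ⊗[MvPolynomial n A] (MvPolynomial n A ⧸ I)))

theorem upperSemicontinuous_fibPd (hI : I.FG) [Module.Flat A (MvPolynomial n A ⧸ I)] :
    UpperSemicontinuous (fibPd A n I) := by
  haveI : Module.FinitePresentation (MvPolynomial n A) (MvPolynomial n A ⧸ I) :=
    Module.finitePresentation_of_surjective (Ideal.Quotient.mkₐ (MvPolynomial n A) I).toLinearMap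
      Ideal.Quotient.mk_surjective (by
        have : LinearMap.ker (Ideal.Quotient.mkₐ (MvPolynomial n A) I).toLinearMap = I := by
          ext a
          simp [Ideal.Quotient.eq_zero_iff_mem]
        rw [this]
        exact hI)
  exact Groth.Agent.S19197.result A (MvPolynomial n A) (MvPolynomial n A ⧸ I)

/-- The closed immersion `Spec 𝒫/I ⟶ Spec 𝒫`. -/
noncomputable abbrev specQuot : Spec (CommRingCat.of (MvPolynomial n A ⧸ I)) ⟶
    Spec (CommRingCat.of (MvPolynomial n A)) :=
  Spec.map (CommRingCat.ofHom (Ideal.Quotient.mk I))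

theorem specQuot_comp : specQuot A n I ≫ specAlg A (MvPolynomial n A) =
    specAlg A (MvPolynomial n A ⧸ I) := by
  unfold specQuot specAlg
  rw [← Spec.map_comp, ← CommRingCat.ofHom_comp, Ideal.Quotient.mk_comp_algebraMap]

theorem fibre_numerics (x : PrimeSpectrum (MvPolynomial n A ⧸ I)) :
    ∃ e d m t : ℕ, fibPd A n I (PrimeSpectrum.comap (Ideal.Quotient.mk I) x) = e ∧
      depth (((specAlg A (MvPolynomial n A ⧸ I)).fiber
          ((specAlg A (MvPolynomial n A ⧸ I)).base x)).presheaf.stalk
            ((specAlg A (MvPolynomial n A ⧸ I)).asFiber x))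
        (((specAlg A (MvPolynomial n A ⧸ I)).fiber
          ((specAlg A (MvPolynomial n A ⧸ I)).base x)).presheaf.stalk
            ((specAlg A (MvPolynomial n A ⧸ I)).asFiber x)) = d ∧
      ringKrullDim (((specAlg A (MvPolynomial n A ⧸ I)).fiber
          ((specAlg A (MvPolynomial n A ⧸ I)).base x)).presheaf.stalk
            ((specAlg A (MvPolynomial n A ⧸ I)).asFiber x)) = m ∧
      resTrdegNat (specAlg A (MvPolynomial n A ⧸ I)) x = t ∧
      FlatMor.fibreDimAt (specAlg A (MvPolynomial n A ⧸ I)) x = ((m + t : ℕ) : WithBot ℕ∞) ∧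
      e + d + t = Nat.card n := by
  obtain ⟨e, he, hdim⟩ := exists_pd_add_depth_fibLoc A n I x.asIdeal
  set f := specAlg A (MvPolynomial n A ⧸ I) with hf
  let Px : PrimeSpectrum (MvPolynomial n A) := PrimeSpectrum.comap (Ideal.Quotient.mk I) x
  have eΩ := fiberStalkSpecEquiv A x
  have eΛ := fiberStalkSpecEquiv A Px
  haveI hreg := isRegularLocalRing_fibLocRing_mvPolynomial A n (x.asIdeal.comap (Ideal.Quotient.mk I))
  haveI : IsLocalRing (EGA4.FibLocRing A (MvPolynomial n A ⧸ I) x.asIdeal) :=
    Groth.Agent.Lib.Helper77.FlatDepth.fibLoc_isLocalRing A _ x.asIdeal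
  haveI : IsNoetherianRing (EGA4.FibLocRing A (MvPolynomial n A ⧸ I) x.asIdeal) :=
    isNoetherianRing_of_surjective _ _ (fibLocQuotMap A I x.asIdeal)
      (fibLocQuotMap_surjective A I x.asIdeal)
  obtain ⟨d, hd⟩ := Groth.Agent.Lib.Helper77.FlatDepth.exists_nat_depth
    (EGA4.FibLocRing A (MvPolynomial n A ⧸ I) x.asIdeal)
  obtain ⟨m, hm⟩ := exists_ringKrullDim_fiber_stalk_eq_natCast f x
  have h1 := fibreDimAt_eq f x
  have h2 := fibreDimAt_eq (specAlg A (MvPolynomial n A)) Px
  have h2' := fibreDimAt_specAlg_mvPolynomial A n Px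
  have h2 := h2'.symm.trans h2
  rw [ringKrullDim_eq_of_ringEquiv eΛ] at h2
  have h3 : resTrdegNat f x = resTrdegNat (specAlg A (MvPolynomial n A)) Px := by
    rw [hf, ← specQuot_comp]
    haveI : IsClosedImmersion (specQuot A n I) :=
      IsClosedImmersion.spec_of_surjective _ Ideal.Quotient.mk_surjective
    exact resTrdegNat_comp_of_isPreimmersion (specQuot A n I) (specAlg A (MvPolynomial n A)) x
  refine ⟨e, d, m, resTrdegNat f x, he, ?_, hm, rfl, ?_, ?_⟩
  · rw [Groth.Agent.Lib.Helper56.depth_self_of_ringEquiv eΩ, hd]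
  · rw [h1, hm]
    push_cast
    rfl
  · have hdim' : ringKrullDim (EGA4.FibLocRing A (MvPolynomial n A) Px.asIdeal) =
        (((e : ℕ∞) + (d : ℕ∞) : ℕ∞) : WithBot ℕ∞) := by rw [← hd]; exact hdim
    rw [hdim', ← h3] at h2
    have : ((Nat.card n : ℕ) : WithBot ℕ∞) = ((e + d + resTrdegNat f x : ℕ) : WithBot ℕ∞) := by
      rw [h2]
      push_cast
      rfl
    exact_mod_cast this.symm

end
end Groth.Agent.Lib.Helper73
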