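import Groth.Agent.Lib.Helper73.DimFormula.IrrEq
import Groth.Agent.Lib.Helper73.DimFormula.OpenFT

/-!
# Closedness of loci defined by generizations of large transcendence degree (helper73)

For `f` locally of finite type, `Z ⊆ X` closed and `r : ℕ`, the set of points `x` having a
generization `x'` in their fibre with `x' ∈ Z` and residual transcendence degree at least `r` is
closed (`isClosed_setOf_exists_generization_trdeg`): it is the locus where the fibres of `Z → Y` have
dimension at least `r` (Chevalley).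
-/

set_option autoImplicit false
open CategoryTheory AlgebraicGeometry TopologicalSpace Topology Limits
universe u

namespace Groth.Agent.Lib.Helper73

theorem isClosed_setOf_exists_generization_trdeg {X Y : Scheme.{u}} (f : X ⟶ Y)
    [LocallyOfFiniteType f] (Z : Set X) (hZ : IsClosed Z) (r : ℕ) :
    IsClosed {x : X | ∃ x' : X, x' ⤳ x ∧ f x' = f x ∧ x' ∈ Z ∧ r ≤ resTrdegNat f x'} := by
  let I := Scheme.IdealSheafData.vanishingIdeal (X := X) ⟨Z, hZ⟩
  set i := I.subschemeι with hi
  have hrange : Set.range i = Z := by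
    rw [hi, Scheme.IdealSheafData.range_subschemeι,
      Scheme.IdealSheafData.coe_support_vanishingIdeal]
    rfl
  have hopen := isOpen_fibreDimAt_lt (i ≫ f) r
  have hcl : IsClosed {z : I.subscheme | ((r : ℕ) : WithBot ℕ∞) ≤ FlatMor.fibreDimAt (i ≫ f) z} := by
    have : {z : I.subscheme | ((r : ℕ) : WithBot ℕ∞) ≤ FlatMor.fibreDimAt (i ≫ f) z} =
        {z : I.subscheme | FlatMor.fibreDimAt (i ≫ f) z < ((r : ℕ) : WithBot ℕ∞)}ᶜ := by
      ext z
      simp only [Set.mem_setOf_eq, Set.mem_compl_iff, not_lt]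
    rw [this]
    exact hopen.isClosed_compl
  have himg := i.isClosedEmbedding.isClosedMap _ hcl
  convert himg using 1
  ext x
  simp only [Set.mem_setOf_eq, Set.mem_image]
  constructor
  · rintro ⟨x', hx'x, hfx', hx'Z, hr⟩
    have hxZ : x ∈ Z := hx'x.mem_closed hZ hx'Z
    rw [← hrange] at hxZ hx'Z
    obtain ⟨z, rfl⟩ := hxZ
    obtain ⟨z', rfl⟩ := hx'Z
    refine ⟨z, ?_, rfl⟩
    have hsp : z' ⤳ z := i.isClosedEmbedding.isEmbedding.isInducing.specializes_iff.mp hx'x
    have hg : (i ≫ f) z' = (i ≫ f) z := by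
      rw [Scheme.Hom.comp_apply, Scheme.Hom.comp_apply]
      exact hfx'
    have h1 := resTrdegNat_le_fibreDimAt_of_specializes (i ≫ f) z z' hsp hg
    rw [resTrdegNat_comp_of_isPreimmersion] at h1
    refine le_trans ?_ h1
    exact_mod_cast hr
  · rintro ⟨z, hz, rfl⟩
    obtain ⟨z', hz'z, hgz', -, hfd⟩ := exists_maximal_fiber_resTrdegNat_eq_fibreDimAt (i ≫ f) z
    refine ⟨i z', hz'z.map i.continuous, ?_, ?_, ?_⟩
    · rw [← Scheme.Hom.comp_apply, ← Scheme.Hom.comp_apply]
      exact hgz'
    · rw [← hrange]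
      exact ⟨z', rfl⟩
    · rw [hfd, resTrdegNat_comp_of_isPreimmersion] at hz
      exact_mod_cast hz

end Groth.Agent.Lib.Helper73
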