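import Groth.Agent.Lib.Helper73.Sk.SkPointwise
import Mathlib.AlgebraicGeometry.Fiber

/-!
# Serre's condition for the local ring of a fibre, pointwise (helper73)

`hasSk_fiberStalk_iff`: the local ring at `x` of the fibre of `f` through `x` satisfies `(S_k)` iff
the `(S_k)` inequality holds for the local rings of the fibre at all generizations of `x` in the
fibre.
-/

set_option autoImplicit false
open CategoryTheory AlgebraicGeometry TopologicalSpace Topology LocCoh
universe u

namespace Groth.Agent.Lib.Helper73

variable {X Y : Scheme.{u}} (f : X ⟶ Y)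

/-- The `(S_k)` inequality for the local ring of the fibre of `f` at `x`. -/
def SkIneqAt (k : ℕ) (x : X) : Prop :=
  SkIneqRing k ((f.fiber (f.base x)).presheaf.stalk (f.asFiber x))

theorem map_fiberι_eq (s : Y) (z : f.fiber s) : f (f.fiberι s z) = s := by
  have : f.fiberι s z ∈ Set.range (f.fiberι s) := ⟨_, rfl⟩
  rw [f.range_fiberι s] at this
  exact this

theorem skIneqRing_fiber_stalk_iff (s : Y) (z : f.fiber s) (k : ℕ) :
    SkIneqRing k ((f.fiber s).presheaf.stalk z) ↔ SkIneqAt f k (f.fiberι s z) := by
  have hs := map_fiberι_eq f s z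
  generalize hx : f.fiberι s z = x at hs
  subst hs
  have : z = f.asFiber x := by
    apply (f.fiberι (f x)).isEmbedding.injective
    rw [hx, f.fiberι_asFiber x]
  rw [this]
  rfl

theorem hasSk_fiberStalk_iff (x : X) (k : ℕ) :
    HasSk k ((f.fiber (f.base x)).presheaf.stalk (f.asFiber x))
        ((f.fiber (f.base x)).presheaf.stalk (f.asFiber x)) ↔
      ∀ x' : X, x' ⤳ x → f x' = f x → SkIneqAt f k x' := by
  rw [hasSk_stalk_iff]
  constructor
  · intro h x' hx'x hfx'
    let z' : f.fiber (f x) := (f.fiberHomeo (f x)).symm ⟨x', hfx'⟩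
    have hz' : f.fiberι (f x) z' = x' := f.fiberι_fiberHomeo_symm (f x) ⟨x', hfx'⟩
    have hsp : z' ⤳ f.asFiber x := by
      rw [← (f.fiberι (f x)).isEmbedding.isInducing.specializes_iff, hz', f.fiberι_asFiber x]
      exact hx'x
    have h1 := (skIneqRing_fiber_stalk_iff f (f x) z' k).mp (h z' hsp)
    rwa [hz'] at h1
  · intro h z' hz'
    have hsp : f.fiberι (f x) z' ⤳ x := by
      have := hz'.map (f.fiberι (f x)).continuous
      rwa [f.fiberι_asFiber x] at this
    exact (skIneqRing_fiber_stalk_iff f (f x) z' k).mpr (h _ hsp (map_fiberι_eq f (f x) z'))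

end Groth.Agent.Lib.Helper73
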