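import Groth.Agent.Lib.Helper73.Sk.FibreNumerics
import Groth.Agent.Lib.Helper73.Sk.FibreTrdegClosed
import Groth.Agent.Lib.Helper73.Sk.SkFibre
import Groth.Agent.Lib.Helper77.FlatDepth4

/-!
# Openness of the fibrewise codepth and `(S_k)` loci for `Spec A[n]/I → Spec A` flat (helper73)
-/

set_option autoImplicit false
universe u
open CategoryTheory AlgebraicGeometry TopologicalSpace Topology Limits TensorProduct LocCoh

namespace Groth.Agent.Lib.Helper73

section
variable (A : Type u) [CommRing A] (n : Type u) [Finite n] (I : Ideal (MvPolynomial n A))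

/-- The fibrewise codepth condition at a point. -/
def CodepthLeAt {X Y : Scheme.{u}} (f : X ⟶ Y) (c : ℕ) (x : X) : Prop :=
  ringKrullDim ((f.fiber (f.base x)).presheaf.stalk (f.asFiber x)) ≤
    ((depth ((f.fiber (f.base x)).presheaf.stalk (f.asFiber x))
      ((f.fiber (f.base x)).presheaf.stalk (f.asFiber x)) : ℕ∞) : WithBot ℕ∞) + (c : WithBot ℕ∞)

variable (hI : I.FG) [Module.Flat A (MvPolynomial n A ⧸ I)]

include hI in
theorem isOpen_fibPd_lt (b : ℕ) :
    IsOpen {x : Spec (CommRingCat.of (MvPolynomial n A ⧸ I)) |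
      fibPd A n I (PrimeSpectrum.comap (Ideal.Quotient.mk I) x) < ((b : ℕ) : WithBot ℕ∞)} := by
  have h1 := (upperSemicontinuous_iff_isOpen_preimage.mp (upperSemicontinuous_fibPd A n I hI))
    ((b : ℕ) : WithBot ℕ∞)
  exact h1.preimage (PrimeSpectrum.continuous_comap (Ideal.Quotient.mk I))

include hI in
theorem isOpen_codepthLeAt_polyQuot (c : ℕ) :
    IsOpen {x : Spec (CommRingCat.of (MvPolynomial n A ⧸ I)) |
      CodepthLeAt (specAlg A (MvPolynomial n A ⧸ I)) c x} := by
  rw [isOpen_iff_mem_nhds]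
  intro x₀ hx₀
  obtain ⟨e₀, d₀, m₀, t₀, hE₀, hd₀, hm₀, -, hD₀, hN₀⟩ := fibre_numerics A n I x₀
  have hc₀ : m₀ ≤ d₀ + c := by
    have : ((m₀ : ℕ) : WithBot ℕ∞) ≤ ((d₀ + c : ℕ) : WithBot ℕ∞) := by
      have h : CodepthLeAt (specAlg A (MvPolynomial n A ⧸ I)) c x₀ := hx₀
      unfold CodepthLeAt at h
      rw [hm₀, hd₀] at h
      push_cast
      exact h
    exact_mod_cast this
  have hU1 := isOpen_fibreDimAt_le (m₀ + t₀) _ _ (specAlg A (MvPolynomial n A ⧸ I))
  have hU2 := isOpen_fibPd_lt A n I hI (e₀ + 1)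
  refine Filter.mem_of_superset ((hU1.inter hU2).mem_nhds ⟨?_, ?_⟩) ?_
  · show FlatMor.fibreDimAt _ x₀ ≤ _
    rw [hD₀]
  · show fibPd A n I _ < _
    rw [hE₀]
    exact_mod_cast Nat.lt_succ_self e₀
  · rintro x ⟨hx1, hx2⟩
    obtain ⟨e, d, m, t, hE, hd, hm, -, hD, hN⟩ := fibre_numerics A n I x
    have h1 : m + t ≤ m₀ + t₀ := by
      have : FlatMor.fibreDimAt (specAlg A (MvPolynomial n A ⧸ I)) x ≤
          ((m₀ + t₀ : ℕ) : WithBot ℕ∞) := hx1
      rw [hD] at this
      exact_mod_cast this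
    have h2 : e ≤ e₀ := by
      have : fibPd A n I (PrimeSpectrum.comap (Ideal.Quotient.mk I) x) <
          ((e₀ + 1 : ℕ) : WithBot ℕ∞) := hx2
      rw [hE] at this
      have : e < e₀ + 1 := by exact_mod_cast this
      omega
    show CodepthLeAt _ c x
    unfold CodepthLeAt
    rw [hm, hd]
    have : m ≤ d + c := by omega
    exact_mod_cast this

include hI in
theorem isOpen_hasSk_polyQuot (k : ℕ) :
    IsOpen {x : Spec (CommRingCat.of (MvPolynomial n A ⧸ I)) |
      HasSk k (((specAlg A (MvPolynomial n A ⧸ I)).fiber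
          ((specAlg A (MvPolynomial n A ⧸ I)).base x)).presheaf.stalk
            ((specAlg A (MvPolynomial n A ⧸ I)).asFiber x))
        (((specAlg A (MvPolynomial n A ⧸ I)).fiber
          ((specAlg A (MvPolynomial n A ⧸ I)).base x)).presheaf.stalk
            ((specAlg A (MvPolynomial n A ⧸ I)).asFiber x))} := by
  classical
  set f := specAlg A (MvPolynomial n A ⧸ I) with hf
  set N := Nat.card n with hN
  -- the closed sets `Z p`
  let Z : ℕ → Set (Spec (CommRingCat.of (MvPolynomial n A ⧸ I))) := fun p =>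
    {x | fibPd A n I (PrimeSpectrum.comap (Ideal.Quotient.mk I) x) < ((p : ℕ) : WithBot ℕ∞)}ᶜ ∩
      {x | CodepthLeAt f 0 x}ᶜ
  have hZ : ∀ p, IsClosed (Z p) := fun p =>
    (isOpen_fibPd_lt A n I hI p).isClosed_compl.inter
      (isOpen_codepthLeAt_polyQuot A n I hI 0).isClosed_compl
  let W : ℕ → Set (Spec (CommRingCat.of (MvPolynomial n A ⧸ I))) := fun p =>
    {x | ∃ x' : Spec (CommRingCat.of (MvPolynomial n A ⧸ I)), x' ⤳ x ∧ f x' = f x ∧ x' ∈ Z p ∧
      N + 1 - (k + p) ≤ resTrdegNat f x'}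
  have hW : ∀ p, IsClosed (W p) := fun p =>
    isClosed_setOf_exists_generization_trdeg f (Z p) (hZ p) (N + 1 - (k + p))
  have hWU : IsClosed (⋃ p ∈ Finset.range (N + 1), W p) :=
    isClosed_biUnion_finset (fun p _ => hW p)
  have hnum : ∀ x' : Spec (CommRingCat.of (MvPolynomial n A ⧸ I)),
      ¬ SkIneqAt f k x' ↔ ∃ p ∈ Finset.range (N + 1), x' ∈ Z p ∧
        N + 1 - (k + p) ≤ resTrdegNat f x' := by
    intro x'
    obtain ⟨e, d, m, t, hE, hd, hm, ht, hD, hNN⟩ := fibre_numerics A n I x'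
    have hsk : SkIneqAt f k x' ↔ min k m ≤ d :=
      Groth.Agent.Lib.Helper77.FlatDepth.sk_nat k m d _ hm hd
    have hcod : CodepthLeAt f 0 x' ↔ m ≤ d := by
      unfold CodepthLeAt
      rw [hm, hd]
      constructor
      · intro h
        have : ((m : ℕ) : WithBot ℕ∞) ≤ ((d + 0 : ℕ) : WithBot ℕ∞) := by
          push_cast
          exact h
        exact_mod_cast this
      · intro h
        have : ((m : ℕ) : WithBot ℕ∞) ≤ ((d + 0 : ℕ) : WithBot ℕ∞) := by exact_mod_cast h
        push_cast at this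
        exact this
    have hmemZ : ∀ p, x' ∈ Z p ↔ p ≤ e ∧ ¬ m ≤ d := by
      intro p
      show (¬ (fibPd A n I (PrimeSpectrum.comap (Ideal.Quotient.mk I) x') < ((p : ℕ) : WithBot ℕ∞)) ∧
        ¬ CodepthLeAt f 0 x') ↔ _
      rw [hcod, hE]
      constructor
      · rintro ⟨h1, h2⟩
        refine ⟨?_, h2⟩
        by_contra hlt
        exact h1 (by exact_mod_cast (not_le.mp hlt))
      · rintro ⟨h1, h2⟩
        refine ⟨?_, h2⟩
        intro hlt
        have : e < p := by exact_mod_cast hlt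
        omega
    rw [hsk, ht]
    constructor
    · intro h
      have h1 : d < k ∧ d < m := by
        rcases le_total k m with hkm | hkm
        · rw [min_eq_left hkm] at h; omega
        · rw [min_eq_right hkm] at h; omega
      refine ⟨e, Finset.mem_range.mpr (by omega), (hmemZ e).mpr ⟨le_rfl, by omega⟩, by omega⟩
    · rintro ⟨p, -, hpZ, hr⟩
      obtain ⟨hpe, hmd⟩ := (hmemZ p).mp hpZ
      intro h
      have : d < k := by omega
      rcases le_total k m with hkm | hkm
      · rw [min_eq_left hkm] at h; omega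
      · rw [min_eq_right hkm] at h; omega
  have hset : {x : Spec (CommRingCat.of (MvPolynomial n A ⧸ I)) |
      HasSk k ((f.fiber (f.base x)).presheaf.stalk (f.asFiber x))
        ((f.fiber (f.base x)).presheaf.stalk (f.asFiber x))} =
      (⋃ p ∈ Finset.range (N + 1), W p)ᶜ := by
    ext x
    simp only [Set.mem_setOf_eq, Set.mem_compl_iff, Set.mem_iUnion, not_exists]
    rw [hasSk_fiberStalk_iff]
    constructor
    · intro h p hp hxW
      obtain ⟨x', hx'x, hfx', hx'Z, hr⟩ := hxW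
      exact (hnum x').mpr ⟨p, hp, hx'Z, hr⟩ (h x' hx'x hfx')
    · intro h x' hx'x hfx'
      by_contra hcon
      obtain ⟨p, hp, hx'Z, hr⟩ := (hnum x').mp hcon
      exact h p hp ⟨x', hx'x, hfx', hx'Z, hr⟩
  rw [hset]
  exact hWU.isOpen_compl

end

end Groth.Agent.Lib.Helper73
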