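import Groth.Agent.Lib.Helper73.Sk.Chart
import Groth.Agent.Lib.Helper73.Sk.PolyQuotOpen
import Groth.Agent.Lib.Helper73.Sk.FibreStalkSquare

/-!
# Openness of fibrewise loci for flat morphisms locally of finite presentation (helper73)
-/

set_option autoImplicit false
universe u
open CategoryTheory AlgebraicGeometry TopologicalSpace Topology Limits TensorProduct LocCoh

namespace Groth.Agent.Lib.Helper73

variable {X Y : Scheme.{u}}

/-- A property of the local rings of the fibres that is invariant under ring isomorphisms and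
open on polynomial-quotient charts is open for every flat morphism locally of finite presentation. -/
theorem isOpen_fibreStalk_of_flat
    (P : ∀ (R : Type u) [CommRing R] [IsLocalRing R], Prop)
    (hP : ∀ (R R' : Type u) [CommRing R] [CommRing R'] [IsLocalRing R] [IsLocalRing R'],
      (R ≃+* R') → P R → P R')
    (hchart : ∀ (A : Type u) [CommRing A] (n : Type u) [Finite n] (I : Ideal (MvPolynomial n A)),
      I.FG → ∀ [Module.Flat A (MvPolynomial n A ⧸ I)],
      IsOpen {x : Spec (CommRingCat.of (MvPolynomial n A ⧸ I)) |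
        P (((specAlg A (MvPolynomial n A ⧸ I)).fiber
          ((specAlg A (MvPolynomial n A ⧸ I)).base x)).presheaf.stalk
            ((specAlg A (MvPolynomial n A ⧸ I)).asFiber x))})
    (f : X ⟶ Y) [Flat f] [LocallyOfFinitePresentation f] :
    IsOpen {x : X | P ((f.fiber (f.base x)).presheaf.stalk (f.asFiber x))} := by
  rw [isOpen_iff_mem_nhds]
  intro x hx
  obtain ⟨A, _, n, _, I, hI, _, j, i, _, _, hsq, ⟨u, rfl⟩⟩ := exists_polyQuot_chart f x
  have hopen := hchart A n I hI
  have hjopen := j.isOpenEmbedding.isOpenMap _ hopen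
  refine Filter.mem_of_superset (hjopen.mem_nhds ⟨u, ?_, rfl⟩) ?_
  · obtain ⟨e⟩ := nonempty_fiberStalk_equiv_of_square j i _ f hsq u
    exact hP _ _ e.symm hx
  · rintro _ ⟨v, hv, rfl⟩
    obtain ⟨e⟩ := nonempty_fiberStalk_equiv_of_square j i _ f hsq v
    exact hP _ _ e hv

theorem isOpen_hasSk_fibre_of_flat (f : X ⟶ Y) [Flat f] [LocallyOfFinitePresentation f] (k : ℕ) :
    IsOpen {x : X | HasSk k ((f.fiber (f.base x)).presheaf.stalk (f.asFiber x))
      ((f.fiber (f.base x)).presheaf.stalk (f.asFiber x))} :=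
  isOpen_fibreStalk_of_flat (fun R _ _ => HasSk k R R)
    (fun _ _ _ _ _ _ e h => Groth.Agent.Lib.Helper56.hasSk_self_of_ringEquiv e k h)
    (fun A _ n _ I hI _ => isOpen_hasSk_polyQuot A n I hI k) f

theorem isOpen_codepthLeAt_of_flat (f : X ⟶ Y) [Flat f] [LocallyOfFinitePresentation f] (c : ℕ) :
    IsOpen {x : X | CodepthLeAt f c x} :=
  isOpen_fibreStalk_of_flat (fun R _ _ => ringKrullDim R ≤
      ((depth R R : ℕ∞) : WithBot ℕ∞) + (c : WithBot ℕ∞))
    (fun R R' _ _ _ _ e h => by
      rw [← ringKrullDim_eq_of_ringEquiv e, ← Groth.Agent.Lib.Helper56.depth_self_of_ringEquiv e]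
      exact h)
    (fun A _ n _ I hI _ => isOpen_codepthLeAt_polyQuot A n I hI c) f

end Groth.Agent.Lib.Helper73
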