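import Groth.Agent.Lib.Helper73.Sk.FlatOpen
import Mathlib.AlgebraicGeometry.Morphisms.Proper

/-!
# Openness on the base of the locus where all fibre local rings satisfy a property, proper case
(helper73)
-/

set_option autoImplicit false
universe u
open CategoryTheory AlgebraicGeometry TopologicalSpace Topology Limits TensorProduct LocCoh

namespace Groth.Agent.Lib.Helper73

variable {X Y : Scheme.{u}}

theorem fiber_stalk_pred_iff (f : X ⟶ Y)
    (P : ∀ (R : Type u) [CommRing R] [IsLocalRing R], Prop) (s : Y) (z : f.fiber s) :
    P ((f.fiber s).presheaf.stalk z) ↔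
      P ((f.fiber (f.base (f.fiberι s z))).presheaf.stalk (f.asFiber (f.fiberι s z))) := by
  have hs := map_fiberι_eq f s z
  generalize hx : f.fiberι s z = x at hs
  subst hs
  have : z = f.asFiber x := by
    apply (f.fiberι (f x)).isEmbedding.injective
    rw [hx, f.fiberι_asFiber x]
  rw [this]

/-- If `f` is a closed map and the locus of points `x` whose fibre local ring satisfies `P` is
open in the source, then the set of `y` all of whose fibre local rings satisfy `P` is open. -/
theorem isOpen_forall_fiber_of_isClosedMap (f : X ⟶ Y) (hcl : IsClosedMap f)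
    (P : ∀ (R : Type u) [CommRing R] [IsLocalRing R], Prop)
    (hopen : IsOpen {x : X | P ((f.fiber (f.base x)).presheaf.stalk (f.asFiber x))}) :
    IsOpen {y : Y | ∀ x : ↥(f.fiber y), P ((f.fiber y).presheaf.stalk x)} := by
  have hZ := hcl _ hopen.isClosed_compl
  convert hZ.isOpen_compl using 1
  ext y
  simp only [Set.mem_setOf_eq, Set.mem_compl_iff, Set.mem_image, not_exists, not_and]
  constructor
  · intro h x hx hxy
    subst hxy
    exact hx (h (f.asFiber x))
  · intro h z
    rw [fiber_stalk_pred_iff f P y z]
    by_contra hcon
    exact h (f.fiberι y z) hcon (map_fiberι_eq f y z)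

end Groth.Agent.Lib.Helper73
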