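import Groth.Agent.Lib.Helper73.Sk.SkStalkBC
import Groth.Agent.Lib.Helper73.Sk.ProperSk
import Groth.Agent.Lib.Helper73.DimFormula.CMFlat.FibrewiseCons

/-!
# Local constructibility of the fibrewise `(S_k)` and codepth loci (helper73)
-/

set_option autoImplicit false
universe u
open CategoryTheory CategoryTheory.Limits AlgebraicGeometry TensorProduct LocCoh

namespace Groth.Agent.Lib.Helper73

open Groth.Agent.Lib.Helper51

/-- A ring-isomorphism-invariant property of the local rings of fibres which is invariant under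
base field extension and open for flat morphisms locally of finite presentation is a
`FibrewiseProp`. -/
theorem fibrewiseProp_of_ring_pred
    (P : ∀ (R : Type u) [CommRing R] [IsLocalRing R], Prop)
    (hP : ∀ (R R' : Type u) [CommRing R] [CommRing R'] [IsLocalRing R] [IsLocalRing R'],
      (R ≃+* R') → P R → P R')
    (hbc : ∀ {X Y X' Y' : Scheme.{u}} {f : X ⟶ Y} {f' : X' ⟶ Y'} {g' : X' ⟶ X} {g : Y' ⟶ Y}
      (hc : IsPullback g' f' f g) [LocallyOfFiniteType f] (y' : Y') (w' : f'.fiber y'),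
      P ((f.fiber (g y')).presheaf.stalk (Groth.Agent.Lib.Helper51.fiberMapOfIsPullback hc y' w')) ↔
        P ((f'.fiber y').presheaf.stalk w'))
    (hopen : ∀ {X' Y' : Scheme.{u}} (g : X' ⟶ Y') [Flat g] [LocallyOfFinitePresentation g],
      IsOpen {x : X' | P ((g.fiber (g.base x)).presheaf.stalk (g.asFiber x))}) :
    FibrewiseProp (fun X S (f : X ⟶ S) (x : X) =>
      P ((f.fiber (f.base x)).presheaf.stalk (f.asFiber x))) where
  baseChange := by
    intro X Y X' Y' f f' g' g hc hf x'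
    haveI := hf
    have h1 := hbc hc (f' x') (f'.asFiber x')
    have hι := Groth.Agent.Lib.Helper51.fiberMapOfIsPullback_fiberι hc (f' x') (f'.asFiber x')
    rw [f'.fiberι_asFiber] at hι
    have h2 := fiber_stalk_pred_iff f P (g (f' x')) (Groth.Agent.Lib.Helper51.fiberMapOfIsPullback hc (f' x') (f'.asFiber x'))
    rw [hι] at h2
    exact h1.symm.trans h2
  openImmersion := by
    intro U X S j f hj hf u
    haveI := hj
    obtain ⟨e⟩ := nonempty_fiberStalk_equiv_comp_left j f u
    exact ⟨fun h => hP _ _ e.symm h, fun h => hP _ _ e h⟩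
  isOpen := by
    intro X S f hfl hfp
    haveI := hfl
    haveI := hfp
    exact hopen f

theorem fibrewiseProp_hasSk (k : ℕ) :
    FibrewiseProp (fun X S (f : X ⟶ S) (x : X) =>
      HasSk k ((f.fiber (f.base x)).presheaf.stalk (f.asFiber x))
        ((f.fiber (f.base x)).presheaf.stalk (f.asFiber x))) :=
  fibrewiseProp_of_ring_pred (fun R _ _ => HasSk k R R)
    (fun _ _ _ _ _ _ e h => Groth.Agent.Lib.Helper56.hasSk_self_of_ringEquiv e k h)
    (fun hc _ y' w' => (sk_codepth_fiber_stalk_of_lft hc y' w' k).2)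
    (fun g _ _ => isOpen_hasSk_fibre_of_flat g k)

theorem isNoetherianRing_fiber_stalk {X Y : Scheme.{u}} (f : X ⟶ Y) [LocallyOfFiniteType f]
    (y : Y) (z : f.fiber y) : IsNoetherianRing ((f.fiber y).presheaf.stalk z) := by
  haveI hN : IsLocallyNoetherian (f.fiber y) :=
    LocallyOfFiniteType.isLocallyNoetherian (f.fiberToSpecResidueField y)
  infer_instance

theorem codepthLe_iff_of_eq {A B : Type u} [CommRing A] [CommRing B] [IsLocalRing A]
    [IsLocalRing B] [IsNoetherianRing A] [IsNoetherianRing B]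
    (h : ringKrullDim A + ((depth B B : ℕ∞) : WithBot ℕ∞) =
      ringKrullDim B + ((depth A A : ℕ∞) : WithBot ℕ∞)) (c : ℕ) :
    (ringKrullDim A ≤ ((depth A A : ℕ∞) : WithBot ℕ∞) + (c : WithBot ℕ∞)) ↔
      (ringKrullDim B ≤ ((depth B B : ℕ∞) : WithBot ℕ∞) + (c : WithBot ℕ∞)) := by
  obtain ⟨a, ha⟩ := Groth.Agent.Lib.Helper77.FlatDepth.exists_nat_dim A
  obtain ⟨b, hb⟩ := Groth.Agent.Lib.Helper77.FlatDepth.exists_nat_dim B
  obtain ⟨a', ha'⟩ := Groth.Agent.Lib.Helper77.FlatDepth.exists_nat_depth A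
  obtain ⟨b', hb'⟩ := Groth.Agent.Lib.Helper77.FlatDepth.exists_nat_depth B
  rw [ha, hb, ha', hb'] at h
  rw [ha, hb, ha', hb']
  have h' : a + b' = b + a' := by exact_mod_cast h
  have e1 : (((a : ℕ) : WithBot ℕ∞) ≤ (((a' : ℕ) : ℕ∞) : WithBot ℕ∞) + (c : WithBot ℕ∞)) ↔
      a ≤ a' + c := by
    constructor
    · intro hh; exact_mod_cast hh
    · intro hh; exact_mod_cast hh
  have e2 : (((b : ℕ) : WithBot ℕ∞) ≤ (((b' : ℕ) : ℕ∞) : WithBot ℕ∞) + (c : WithBot ℕ∞)) ↔
      b ≤ b' + c := by
    constructor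
    · intro hh; exact_mod_cast hh
    · intro hh; exact_mod_cast hh
  rw [e1, e2]
  omega

theorem fibrewiseProp_codepthLe (c : ℕ) :
    FibrewiseProp (fun X S (f : X ⟶ S) (x : X) => CodepthLeAt f c x) :=
  fibrewiseProp_of_ring_pred (fun R _ _ => ringKrullDim R ≤
      ((depth R R : ℕ∞) : WithBot ℕ∞) + (c : WithBot ℕ∞))
    (fun R R' _ _ _ _ e h => by
      rw [← ringKrullDim_eq_of_ringEquiv e, ← Groth.Agent.Lib.Helper56.depth_self_of_ringEquiv e]
      exact h)
    (fun {X Y X' Y' f f' g' g} hc _ y' w' => by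
      haveI : LocallyOfFiniteType f' :=
        MorphismProperty.of_isPullback (P := @LocallyOfFiniteType) hc inferInstance
      haveI := isNoetherianRing_fiber_stalk f (g y')
        (Groth.Agent.Lib.Helper51.fiberMapOfIsPullback hc y' w')
      haveI := isNoetherianRing_fiber_stalk f' y' w'
      exact codepthLe_iff_of_eq (sk_codepth_fiber_stalk_of_lft hc y' w' 0).1 c)
    (fun g _ _ => isOpen_codepthLeAt_of_flat g c)

end Groth.Agent.Lib.Helper73
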