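import Groth.Agent.Lib.Helper56.CMTensor
import Groth.Agent.Lib.Helper56.FlatSk
import Groth.Agent.Lib.Helper67.CM

/-!
# `(S_n)` and codepth under base field extension, essentially-of-finite-type case (helper73)
-/

set_option autoImplicit false
universe u

namespace Groth.Agent.Lib.Helper73

open Groth.Agent.Lib.Helper56 Groth.Agent.Lib.Helper77.FlatDepth LocCoh TensorProduct IsLocalRing

theorem hasSk_self_of_isCM' (n : ℕ) (R : Type u) [CommRing R] (h : IsCohenMacaulayLocalRing R) :
    HasSk n R R := by
  intro p _
  have hM : IsCohenMacaulayModule R R := h.supportDim_eq_depth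
  have h1 := Groth.Agent.Lib.Helper67.isCohenMacaulayModule_localization R hM ⟨p, inferInstance⟩
    (by rw [Module.support_eq_zeroLocus, Module.annihilator_eq_bot.mpr inferInstance]; simp)
  unfold IsCohenMacaulayModule at h1
  rw [h1]
  exact min_le_right _ _

/-- General form of the base-field-extension comparison of `(S_n)` and codepth, assuming the
fibre rings `κ(p) ⊗ k'` are Cohen–Macaulay. -/
theorem sk_codepth_baseChange_general (k S k' : Type u) [Field k] [CommRing S] [Algebra k S]
    [IsNoetherianRing S] [Field k'] [Algebra k k'] [IsNoetherianRing (S ⊗[k] k')]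
    (hfibre : ∀ (p : Ideal S) [p.IsPrime], IsCohenMacaulayRing (p.ResidueField ⊗[k] k'))
    (q' : Ideal (S ⊗[k] k')) [q'.IsPrime] (n : ℕ) :
    (ringKrullDim (Localization.AtPrime (q'.comap (algebraMap S (S ⊗[k] k')))) +
        ((LocCoh.depth (Localization.AtPrime q') (Localization.AtPrime q') : ℕ∞) : WithBot ℕ∞) =
      ringKrullDim (Localization.AtPrime q') +
        ((LocCoh.depth (Localization.AtPrime (q'.comap (algebraMap S (S ⊗[k] k'))))
          (Localization.AtPrime (q'.comap (algebraMap S (S ⊗[k] k')))) : ℕ∞) : WithBot ℕ∞)) ∧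
    (HasSk n (Localization.AtPrime (q'.comap (algebraMap S (S ⊗[k] k'))))
        (Localization.AtPrime (q'.comap (algebraMap S (S ⊗[k] k')))) ↔
      HasSk n (Localization.AtPrime q') (Localization.AtPrime q')) := by
  have hflat : Module.Flat S (S ⊗[k] k') := inferInstance
  have hfibCM : ∀ (p : Ideal S) [p.IsPrime], IsCohenMacaulayRing (p.Fiber (S ⊗[k] k')) := by
    intro p _
    exact isCohenMacaulayRing_of_ringEquiv
      (Algebra.TensorProduct.cancelBaseChange k S S p.ResidueField k').symm.toRingEquiv (hfibre p)
  have hfib : ∀ (r : Ideal (S ⊗[k] k')) [r.IsPrime],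
      IsCohenMacaulayLocalRing (EGA4.FibLocRing S (S ⊗[k] k') r) := by
    intro r _
    exact isCM_fibLocRing_of_fiber S (S ⊗[k] k') r (hfibCM _)
  obtain ⟨h1, h2, -⟩ := loc_formulas S (S ⊗[k] k') q'
  have hF := hfib q'
  have hFeq : ringKrullDim (FibLoc S (S ⊗[k] k') q') =
      ((depth (FibLoc S (S ⊗[k] k') q') (FibLoc S (S ⊗[k] k') q') : ℕ∞) : WithBot ℕ∞) := by
    have := hF.supportDim_eq_depth
    rwa [Module.supportDim_self_eq_ringKrullDim] at this
  refine ⟨?_, ?_, ?_⟩
  · rw [h1, h2, hFeq]
    push_cast
    abel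
  · intro h
    exact hasSk_atPrime_of_flat_of_fibres S (S ⊗[k] k') n
      (fun r _ => hasSk_self_of_isCM' n _ (hfib r)) q' h
  · intro h
    have hlo : q'.LiesOver (q'.comap (algebraMap S (S ⊗[k] k'))) := ⟨rfl⟩
    let _ := Localization.AtPrime.algebraOfLiesOver (q'.comap (algebraMap S (S ⊗[k] k'))) q'
    have hfl : Module.Flat (Localization.AtPrime (q'.comap (algebraMap S (S ⊗[k] k'))))
        (Localization.AtPrime q') := inferInstance
    have hloc : IsLocalHom (algebraMap (Localization.AtPrime (q'.comap (algebraMap S (S ⊗[k] k'))))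
        (Localization.AtPrime q')) :=
      Localization.isLocalHom_localRingHom (q'.comap (algebraMap S (S ⊗[k] k'))) q'
        (algebraMap S (S ⊗[k] k')) Ideal.LiesOver.over
    have hff : Module.FaithfullyFlat (Localization.AtPrime (q'.comap (algebraMap S (S ⊗[k] k'))))
        (Localization.AtPrime q') := Module.FaithfullyFlat.of_flat_of_isLocalHom
    exact hasSk_descent (Localization.AtPrime (q'.comap (algebraMap S (S ⊗[k] k'))))
      (Localization.AtPrime q') n h

theorem essFiniteType_residueField' (k S : Type u) [Field k] [CommRing S] [Algebra k S]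
    [Algebra.EssFiniteType k S] (p : Ideal S) [p.IsPrime] :
    Algebra.EssFiniteType k p.ResidueField := by
  have h1 : Algebra.EssFiniteType k (Localization.AtPrime p) :=
    Algebra.EssFiniteType.comp k S (Localization.AtPrime p)
  have h2 : Algebra.EssFiniteType (Localization.AtPrime p) p.ResidueField :=
    Algebra.EssFiniteType.of_surjective (IsScalarTower.toAlgHom (Localization.AtPrime p)
      (Localization.AtPrime p) p.ResidueField) IsLocalRing.residue_surjective
  exact Algebra.EssFiniteType.comp k (Localization.AtPrime p) p.ResidueField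

/-- Local form: `A` a local ring essentially of finite type over `k`, `K/k` any field extension,
`q` a prime of `A ⊗ K` over the maximal ideal of `A`. -/
theorem sk_codepth_atPrime_tensor (k A K : Type u) [Field k] [CommRing A] [Algebra k A]
    [IsLocalRing A] [Algebra.EssFiniteType k A] [Field K] [Algebra k K]
    (q : Ideal (A ⊗[k] K)) [q.IsPrime]
    (hq : q.comap (Algebra.TensorProduct.includeLeftRingHom) = maximalIdeal A) (n : ℕ) :
    (ringKrullDim A +
        ((LocCoh.depth (Localization.AtPrime q) (Localization.AtPrime q) : ℕ∞) : WithBot ℕ∞) =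
      ringKrullDim (Localization.AtPrime q) + ((LocCoh.depth A A : ℕ∞) : WithBot ℕ∞)) ∧
    (HasSk n A A ↔ HasSk n (Localization.AtPrime q) (Localization.AtPrime q)) := by
  haveI hNA : IsNoetherianRing A := Algebra.EssFiniteType.isNoetherianRing k A
  haveI hNAK : IsNoetherianRing (A ⊗[k] K) := by
    haveI : IsNoetherianRing (K ⊗[k] A) := Algebra.EssFiniteType.isNoetherianRing K _
    exact isNoetherianRing_of_ringEquiv _ (Algebra.TensorProduct.comm k K A).toRingEquiv
  have hfibre : ∀ (p : Ideal A) [p.IsPrime], IsCohenMacaulayRing (p.ResidueField ⊗[k] K) := by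
    intro p _
    haveI := essFiniteType_residueField' k A p
    exact isCM_tensor_of_essFiniteType k p.ResidueField K
  have hgen := sk_codepth_baseChange_general k A K hfibre q n
  have hq' : q.comap (algebraMap A (A ⊗[k] K)) = maximalIdeal A := hq
  have key : ∀ (p : Ideal A) [p.IsPrime], p = maximalIdeal A →
      ((ringKrullDim (Localization.AtPrime p) +
        ((LocCoh.depth (Localization.AtPrime q) (Localization.AtPrime q) : ℕ∞) : WithBot ℕ∞) =
      ringKrullDim (Localization.AtPrime q) +
        ((LocCoh.depth (Localization.AtPrime p) (Localization.AtPrime p) : ℕ∞) : WithBot ℕ∞)) ∧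
      (HasSk n (Localization.AtPrime p) (Localization.AtPrime p) ↔
        HasSk n (Localization.AtPrime q) (Localization.AtPrime q))) →
      ((ringKrullDim A +
        ((LocCoh.depth (Localization.AtPrime q) (Localization.AtPrime q) : ℕ∞) : WithBot ℕ∞) =
      ringKrullDim (Localization.AtPrime q) + ((LocCoh.depth A A : ℕ∞) : WithBot ℕ∞)) ∧
      (HasSk n A A ↔ HasSk n (Localization.AtPrime q) (Localization.AtPrime q))) := by
    intro p _ hp h
    subst hp
    obtain ⟨e⟩ := atUnitsEquiv A
    rw [ringKrullDim_eq_of_ringEquiv e, depth_self_of_ringEquiv e]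
    refine ⟨h.1, ?_⟩
    rw [← h.2]
    exact ⟨fun hh => hasSk_self_of_ringEquiv e n hh, fun hh => hasSk_self_of_ringEquiv e.symm n hh⟩
  exact key _ hq' hgen

end Groth.Agent.Lib.Helper73
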