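import Groth.Agent.Lib.Helper56.FiberLoc
import Mathlib.AlgebraicGeometry.AffineScheme

/-!
# Serre's condition for a stalk, pointwise on generizations (helper73)

* `hasSk_atPrime_iff`: `(S_k)` for `S_q` iff the `(S_k)`-inequality holds at every prime `q' ≤ q`.
* `hasSk_stalk_iff`: `(S_k)` for the stalk `O_{F,z}` iff the `(S_k)`-inequality holds for the stalks at
  all generizations of `z`.
-/

set_option autoImplicit false
open CategoryTheory AlgebraicGeometry TopologicalSpace Topology LocCoh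
universe u

namespace Groth.Agent.Lib.Helper73

/-- The `(S_k)` inequality for a local ring. -/
def SkIneqRing (k : ℕ) (R : Type u) [CommRing R] [IsLocalRing R] : Prop :=
  min (k : WithBot ℕ∞) (ringKrullDim R) ≤ ((depth R R : ℕ∞) : WithBot ℕ∞)

theorem skIneqRing_of_ringEquiv {R R' : Type u} [CommRing R] [CommRing R'] [IsLocalRing R]
    [IsLocalRing R'] (e : R ≃+* R') (k : ℕ) (h : SkIneqRing k R) : SkIneqRing k R' := by
  unfold SkIneqRing at h ⊢
  rwa [← ringKrullDim_eq_of_ringEquiv e, ← Groth.Agent.Lib.Helper56.depth_self_of_ringEquiv e]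

theorem hasSk_atPrime_iff {S : Type u} [CommRing S] (q : Ideal S) [q.IsPrime] (k : ℕ) :
    HasSk k (Localization.AtPrime q) (Localization.AtPrime q) ↔
      ∀ (q' : Ideal S) [q'.IsPrime], q' ≤ q → SkIneqRing k (Localization.AtPrime q') := by
  constructor
  · intro h q' _ hle
    exact Groth.Agent.Lib.Helper56.sk_ineq_of_hasSk_atPrime q q' hle k h
  · intro h
    rw [Groth.Agent.Lib.Helper56.hasSk_self_iff]
    intro Q hQ
    let e := (IsLocalization.localizationLocalizationAtPrimeIsoLocalization q.primeCompl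
      Q).toRingEquiv
    have hle' : Q.comap (algebraMap S (Localization.AtPrime q)) ≤ q := by
      have h1 : Q ≤ IsLocalRing.maximalIdeal (Localization.AtPrime q) :=
        IsLocalRing.le_maximalIdeal hQ.ne_top
      have h2 := Ideal.comap_mono (f := algebraMap S (Localization.AtPrime q)) h1
      rwa [show Ideal.comap (algebraMap S (Localization.AtPrime q))
        (IsLocalRing.maximalIdeal (Localization.AtPrime q)) = q from
        Localization.AtPrime.under_maximalIdeal] at h2
    have h1 := h (Q.comap (algebraMap S (Localization.AtPrime q))) hle'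
    exact skIneqRing_of_ringEquiv e k h1

/-- `(S_k)` for the stalk at `z` is the `(S_k)` inequality at all generizations of `z`. -/
theorem hasSk_stalk_iff {F : Scheme.{u}} (z : F) (k : ℕ) :
    HasSk k (F.presheaf.stalk z) (F.presheaf.stalk z) ↔
      ∀ z' : F, z' ⤳ z → SkIneqRing k (F.presheaf.stalk z') := by
  obtain ⟨V, hV, hzV, -⟩ := exists_isAffineOpen_mem_and_subset (X := F) (x := z) (U := ⊤) trivial
  -- stalk ≃ localization
  have hloc : ∀ (w : F) (hw : w ∈ V), Nonempty
      (Localization.AtPrime (hV.primeIdealOf ⟨w, hw⟩).asIdeal ≃+* F.presheaf.stalk w) := by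
    intro w hw
    let _ : Algebra Γ(F, V) (F.presheaf.stalk w) :=
      TopCat.Presheaf.algebra_section_stalk F.presheaf (⟨w, hw⟩ : V)
    have hl : IsLocalization.AtPrime (F.presheaf.stalk w) (hV.primeIdealOf ⟨w, hw⟩).asIdeal :=
      hV.isLocalization_stalk ⟨w, hw⟩
    exact ⟨(IsLocalization.algEquiv (hV.primeIdealOf ⟨w, hw⟩).asIdeal.primeCompl _ _).toRingEquiv⟩
  obtain ⟨ez⟩ := hloc z hzV
  have hiff : HasSk k (F.presheaf.stalk z) (F.presheaf.stalk z) ↔
      HasSk k (Localization.AtPrime (hV.primeIdealOf ⟨z, hzV⟩).asIdeal)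
        (Localization.AtPrime (hV.primeIdealOf ⟨z, hzV⟩).asIdeal) :=
    ⟨Groth.Agent.Lib.Helper56.hasSk_self_of_ringEquiv ez.symm k,
      Groth.Agent.Lib.Helper56.hasSk_self_of_ringEquiv ez k⟩
  rw [hiff, hasSk_atPrime_iff]
  have hspec : ∀ (w : F) (hw : w ∈ V), (w ⤳ z ↔
      (hV.primeIdealOf ⟨w, hw⟩).asIdeal ≤ (hV.primeIdealOf ⟨z, hzV⟩).asIdeal) := by
    intro w hw
    have h1 : (hV.primeIdealOf ⟨w, hw⟩ ⤳ hV.primeIdealOf ⟨z, hzV⟩) ↔ w ⤳ z := by
      have h2 := hV.fromSpec.isOpenEmbedding.isEmbedding.isInducing.specializes_iff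
        (x := hV.primeIdealOf ⟨w, hw⟩) (y := hV.primeIdealOf ⟨z, hzV⟩)
      rw [hV.fromSpec_primeIdealOf, hV.fromSpec_primeIdealOf] at h2
      exact h2.symm
    rw [← h1, ← PrimeSpectrum.le_iff_specializes]
    exact (PrimeSpectrum.asIdeal_le_asIdeal _ _).symm
  constructor
  · intro h z' hz'
    have hz'V : z' ∈ V := hz'.mem_open V.2 hzV
    obtain ⟨e'⟩ := hloc z' hz'V
    exact skIneqRing_of_ringEquiv e' k (h _ ((hspec z' hz'V).mp hz'))
  · intro h q' hq' hle
    let w' : PrimeSpectrum Γ(F, V) := ⟨q', hq'⟩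
    have hw'V : hV.fromSpec w' ∈ V := by
      have : hV.fromSpec w' ∈ Set.range hV.fromSpec := ⟨_, rfl⟩
      rwa [hV.range_fromSpec] at this
    have hprime : hV.primeIdealOf ⟨hV.fromSpec w', hw'V⟩ = w' := by
      apply hV.fromSpec.isOpenEmbedding.injective
      rw [hV.fromSpec_primeIdealOf]
    obtain ⟨e'⟩ := hloc (hV.fromSpec w') hw'V
    have hsp : hV.fromSpec w' ⤳ z := by
      rw [hspec _ hw'V, hprime]
      exact hle
    have h1 := skIneqRing_of_ringEquiv e'.symm k (h _ hsp)
    have key : ∀ (p : PrimeSpectrum Γ(F, V)), p = w' →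
        SkIneqRing k (Localization.AtPrime p.asIdeal) → SkIneqRing k (Localization.AtPrime q') := by
      intro p hp hh
      subst hp
      exact hh
    exact key _ hprime h1

end Groth.Agent.Lib.Helper73
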