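import Groth.Agent.Lib.Helper51.CMAtBC
import Groth.Agent.Lib.Helper73.Sk.SkFieldBC

/-!
# `(S_n)` and codepth of the local rings of fibres under base change (helper73)
-/

set_option autoImplicit false
set_option linter.style.haveILetI false
universe u
open CategoryTheory CategoryTheory.Limits AlgebraicGeometry TensorProduct LocCoh

namespace Groth.Agent.Lib.Helper73

open Groth.Agent.Lib.Helper51

/-- `(S_n)` and codepth of local rings of a base change `F' = F_K`, `F` locally of finite type over
`k`, `K/k` arbitrary. -/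
theorem sk_codepth_stalk_of_isPullback_of_lft {k K : Type u} [Field k] [Field K] [Algebra k K]
    {F F' : Scheme.{u}} (φ : F ⟶ Spec (CommRingCat.of k)) [LocallyOfFiniteType φ] {m : F' ⟶ F}
    {snd : F' ⟶ Spec (CommRingCat.of K)}
    (hP : IsPullback m snd φ (Spec.map (CommRingCat.ofHom (algebraMap k K)))) (w' : F') (n : ℕ) :
    (ringKrullDim (F.presheaf.stalk (m w')) +
        ((depth (F'.presheaf.stalk w') (F'.presheaf.stalk w') : ℕ∞) : WithBot ℕ∞) =
      ringKrullDim (F'.presheaf.stalk w') +
        ((depth (F.presheaf.stalk (m w')) (F.presheaf.stalk (m w')) : ℕ∞) : WithBot ℕ∞)) ∧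
    (HasSk n (F.presheaf.stalk (m w')) (F.presheaf.stalk (m w')) ↔
      HasSk n (F'.presheaf.stalk w') (F'.presheaf.stalk w')) := by
  letI := stalkAlg φ (m w')
  haveI hess : Algebra.EssFiniteType k (F.presheaf.stalk (m w')) := essFiniteType_stalk φ (m w')
  have hψ := specMap_stalkMapOf φ (m w')
  have hy : pullback.fst φ (Spec.map (CommRingCat.ofHom (algebraMap k K)))
      (hP.isoPullback.hom w') = m w' := by
    rw [← Scheme.Hom.comp_apply, hP.isoPullback_hom_fst]
  obtain ⟨q, hqp, hq, ⟨E⟩⟩ := exists_prime_ringEquiv_stalk φ (m w') hψ K _ hy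
  have key := sk_codepth_atPrime_tensor k (F.presheaf.stalk (m w')) K q hq n
  let E' : F'.presheaf.stalk w' ≃+* Localization.AtPrime q :=
    ((asIso (hP.isoPullback.hom.stalkMap w')).commRingCatIsoToRingEquiv.symm).trans E
  rw [ringKrullDim_eq_of_ringEquiv E', Groth.Agent.Lib.Helper56.depth_self_of_ringEquiv E']
  refine ⟨key.1, ?_⟩
  rw [key.2]
  exact ⟨fun h => Groth.Agent.Lib.Helper56.hasSk_self_of_ringEquiv E'.symm n h,
    fun h => Groth.Agent.Lib.Helper56.hasSk_self_of_ringEquiv E' n h⟩

section Fibre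

variable {X Y X' Y' : Scheme.{u}} {f : X ⟶ Y} {f' : X' ⟶ Y'} {g' : X' ⟶ X} {g : Y' ⟶ Y}

set_option backward.isDefEq.respectTransparency.types false in
theorem sk_codepth_fiber_stalk_of_lft (hc : IsPullback g' f' f g) [LocallyOfFiniteType f] (y' : Y')
    (w' : f'.fiber y') (n : ℕ) :
    (ringKrullDim ((f.fiber (g y')).presheaf.stalk (fiberMapOfIsPullback hc y' w')) +
        ((depth ((f'.fiber y').presheaf.stalk w') ((f'.fiber y').presheaf.stalk w') : ℕ∞) :
          WithBot ℕ∞) =
      ringKrullDim ((f'.fiber y').presheaf.stalk w') +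
        ((depth ((f.fiber (g y')).presheaf.stalk (fiberMapOfIsPullback hc y' w'))
          ((f.fiber (g y')).presheaf.stalk (fiberMapOfIsPullback hc y' w')) : ℕ∞) : WithBot ℕ∞)) ∧
    (HasSk n ((f.fiber (g y')).presheaf.stalk (fiberMapOfIsPullback hc y' w'))
        ((f.fiber (g y')).presheaf.stalk (fiberMapOfIsPullback hc y' w')) ↔
      HasSk n ((f'.fiber y').presheaf.stalk w') ((f'.fiber y').presheaf.stalk w')) := by
  letI algkK : Algebra ↑(Y.residueField (g y')) ↑(Y'.residueField y') :=
    (g.residueFieldMap y').hom.toAlgebra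
  have hP : IsPullback (fiberMapOfIsPullback hc y') (f'.fiberToSpecResidueField y')
      (f.fiberToSpecResidueField (g y'))
      (Spec.map (CommRingCat.ofHom (algebraMap ↑(Y.residueField (g y')) ↑(Y'.residueField y')))) :=
    isPullback_fiberMapOfIsPullback hc y'
  haveI : LocallyOfFiniteType (f.fiberToSpecResidueField (g y')) :=
    MorphismProperty.pullback_snd (P := @LocallyOfFiniteType) _ _ inferInstance
  exact sk_codepth_stalk_of_isPullback_of_lft (k := ↑(Y.residueField (g y')))
    (K := ↑(Y'.residueField y')) (f.fiberToSpecResidueField (g y')) hP w' n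

end Fibre

end Groth.Agent.Lib.Helper73
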